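import Cfsg.Agent.Lib.SporRecognition.Fi22Rep.Packed
import Cfsg.Agent.Lib.SporRecognition.Fi22Rep.Powers

/-!
Coxeter relations of Fi22 in the 78-dimensional representation.
-/

set_option autoImplicit false
set_option maxRecDepth 20000

namespace CfsgLib.SporRecognition.Fi22Rep

lemma sq_a_c0 : chunkOk [rows_a, rows_a] rows_one 0 = true := by decide +kernel
lemma sq_a_c1 : chunkOk [rows_a, rows_a] rows_one 1 = true := by decide +kernel
lemma sq_a_c2 : chunkOk [rows_a, rows_a] rows_one 2 = true := by decide +kernel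
lemma sq_a_c3 : chunkOk [rows_a, rows_a] rows_one 3 = true := by decide +kernel
lemma sq_a_c4 : chunkOk [rows_a, rows_a] rows_one 4 = true := by decide +kernel
lemma sq_a_c5 : chunkOk [rows_a, rows_a] rows_one 5 = true := by decide +kernel
lemma sq_a_c6 : chunkOk [rows_a, rows_a] rows_one 6 = true := by decide +kernel
lemma sq_a_c7 : chunkOk [rows_a, rows_a] rows_one 7 = true := by decide +kernel
theorem sq_a : prodP [rows_a, rows_a] = rows_one :=
  prodP_eq_of_chunks rfl fun c hc => match c, hc with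
    | 0, _ => sq_a_c0
    | 1, _ => sq_a_c1
    | 2, _ => sq_a_c2
    | 3, _ => sq_a_c3
    | 4, _ => sq_a_c4
    | 5, _ => sq_a_c5
    | 6, _ => sq_a_c6
    | 7, _ => sq_a_c7
    | n + 8, h => absurd h (by omega)

lemma cox_ab_c0 : chunkOk [rows_a, rows_b, rows_a, rows_b, rows_a, rows_b] rows_one 0 = true := by decide +kernel
lemma cox_ab_c1 : chunkOk [rows_a, rows_b, rows_a, rows_b, rows_a, rows_b] rows_one 1 = true := by decide +kernel
lemma cox_ab_c2 : chunkOk [rows_a, rows_b, rows_a, rows_b, rows_a, rows_b] rows_one 2 = true := by decide +kernel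
lemma cox_ab_c3 : chunkOk [rows_a, rows_b, rows_a, rows_b, rows_a, rows_b] rows_one 3 = true := by decide +kernel
lemma cox_ab_c4 : chunkOk [rows_a, rows_b, rows_a, rows_b, rows_a, rows_b] rows_one 4 = true := by decide +kernel
lemma cox_ab_c5 : chunkOk [rows_a, rows_b, rows_a, rows_b, rows_a, rows_b] rows_one 5 = true := by decide +kernel
lemma cox_ab_c6 : chunkOk [rows_a, rows_b, rows_a, rows_b, rows_a, rows_b] rows_one 6 = true := by decide +kernel
lemma cox_ab_c7 : chunkOk [rows_a, rows_b, rows_a, rows_b, rows_a, rows_b] rows_one 7 = true := by decide +kernel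
theorem cox_ab : prodP [rows_a, rows_b, rows_a, rows_b, rows_a, rows_b] = rows_one :=
  prodP_eq_of_chunks rfl fun c hc => match c, hc with
    | 0, _ => cox_ab_c0
    | 1, _ => cox_ab_c1
    | 2, _ => cox_ab_c2
    | 3, _ => cox_ab_c3
    | 4, _ => cox_ab_c4
    | 5, _ => cox_ab_c5
    | 6, _ => cox_ab_c6
    | 7, _ => cox_ab_c7
    | n + 8, h => absurd h (by omega)

lemma cox_ac_c0 : chunkOk [rows_a, rows_c, rows_a, rows_c] rows_one 0 = true := by decide +kernel
lemma cox_ac_c1 : chunkOk [rows_a, rows_c, rows_a, rows_c] rows_one 1 = true := by decide +kernel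
lemma cox_ac_c2 : chunkOk [rows_a, rows_c, rows_a, rows_c] rows_one 2 = true := by decide +kernel
lemma cox_ac_c3 : chunkOk [rows_a, rows_c, rows_a, rows_c] rows_one 3 = true := by decide +kernel
lemma cox_ac_c4 : chunkOk [rows_a, rows_c, rows_a, rows_c] rows_one 4 = true := by decide +kernel
lemma cox_ac_c5 : chunkOk [rows_a, rows_c, rows_a, rows_c] rows_one 5 = true := by decide +kernel
lemma cox_ac_c6 : chunkOk [rows_a, rows_c, rows_a, rows_c] rows_one 6 = true := by decide +kernel
lemma cox_ac_c7 : chunkOk [rows_a, rows_c, rows_a, rows_c] rows_one 7 = true := by decide +kernel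
theorem cox_ac : prodP [rows_a, rows_c, rows_a, rows_c] = rows_one :=
  prodP_eq_of_chunks rfl fun c hc => match c, hc with
    | 0, _ => cox_ac_c0
    | 1, _ => cox_ac_c1
    | 2, _ => cox_ac_c2
    | 3, _ => cox_ac_c3
    | 4, _ => cox_ac_c4
    | 5, _ => cox_ac_c5
    | 6, _ => cox_ac_c6
    | 7, _ => cox_ac_c7
    | n + 8, h => absurd h (by omega)

lemma cox_ad_c0 : chunkOk [rows_a, rows_d, rows_a, rows_d] rows_one 0 = true := by decide +kernel
lemma cox_ad_c1 : chunkOk [rows_a, rows_d, rows_a, rows_d] rows_one 1 = true := by decide +kernel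
lemma cox_ad_c2 : chunkOk [rows_a, rows_d, rows_a, rows_d] rows_one 2 = true := by decide +kernel
lemma cox_ad_c3 : chunkOk [rows_a, rows_d, rows_a, rows_d] rows_one 3 = true := by decide +kernel
lemma cox_ad_c4 : chunkOk [rows_a, rows_d, rows_a, rows_d] rows_one 4 = true := by decide +kernel
lemma cox_ad_c5 : chunkOk [rows_a, rows_d, rows_a, rows_d] rows_one 5 = true := by decide +kernel
lemma cox_ad_c6 : chunkOk [rows_a, rows_d, rows_a, rows_d] rows_one 6 = true := by decide +kernel
lemma cox_ad_c7 : chunkOk [rows_a, rows_d, rows_a, rows_d] rows_one 7 = true := by decide +kernel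
theorem cox_ad : prodP [rows_a, rows_d, rows_a, rows_d] = rows_one :=
  prodP_eq_of_chunks rfl fun c hc => match c, hc with
    | 0, _ => cox_ad_c0
    | 1, _ => cox_ad_c1
    | 2, _ => cox_ad_c2
    | 3, _ => cox_ad_c3
    | 4, _ => cox_ad_c4
    | 5, _ => cox_ad_c5
    | 6, _ => cox_ad_c6
    | 7, _ => cox_ad_c7
    | n + 8, h => absurd h (by omega)

lemma cox_ae_c0 : chunkOk [rows_a, rows_e, rows_a, rows_e] rows_one 0 = true := by decide +kernel
lemma cox_ae_c1 : chunkOk [rows_a, rows_e, rows_a, rows_e] rows_one 1 = true := by decide +kernel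
lemma cox_ae_c2 : chunkOk [rows_a, rows_e, rows_a, rows_e] rows_one 2 = true := by decide +kernel
lemma cox_ae_c3 : chunkOk [rows_a, rows_e, rows_a, rows_e] rows_one 3 = true := by decide +kernel
lemma cox_ae_c4 : chunkOk [rows_a, rows_e, rows_a, rows_e] rows_one 4 = true := by decide +kernel
lemma cox_ae_c5 : chunkOk [rows_a, rows_e, rows_a, rows_e] rows_one 5 = true := by decide +kernel
lemma cox_ae_c6 : chunkOk [rows_a, rows_e, rows_a, rows_e] rows_one 6 = true := by decide +kernel
lemma cox_ae_c7 : chunkOk [rows_a, rows_e, rows_a, rows_e] rows_one 7 = true := by decide +kernel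
theorem cox_ae : prodP [rows_a, rows_e, rows_a, rows_e] = rows_one :=
  prodP_eq_of_chunks rfl fun c hc => match c, hc with
    | 0, _ => cox_ae_c0
    | 1, _ => cox_ae_c1
    | 2, _ => cox_ae_c2
    | 3, _ => cox_ae_c3
    | 4, _ => cox_ae_c4
    | 5, _ => cox_ae_c5
    | 6, _ => cox_ae_c6
    | 7, _ => cox_ae_c7
    | n + 8, h => absurd h (by omega)

lemma cox_af_c0 : chunkOk [rows_a, rows_f, rows_a, rows_f] rows_one 0 = true := by decide +kernel
lemma cox_af_c1 : chunkOk [rows_a, rows_f, rows_a, rows_f] rows_one 1 = true := by decide +kernel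
lemma cox_af_c2 : chunkOk [rows_a, rows_f, rows_a, rows_f] rows_one 2 = true := by decide +kernel
lemma cox_af_c3 : chunkOk [rows_a, rows_f, rows_a, rows_f] rows_one 3 = true := by decide +kernel
lemma cox_af_c4 : chunkOk [rows_a, rows_f, rows_a, rows_f] rows_one 4 = true := by decide +kernel
lemma cox_af_c5 : chunkOk [rows_a, rows_f, rows_a, rows_f] rows_one 5 = true := by decide +kernel
lemma cox_af_c6 : chunkOk [rows_a, rows_f, rows_a, rows_f] rows_one 6 = true := by decide +kernel
lemma cox_af_c7 : chunkOk [rows_a, rows_f, rows_a, rows_f] rows_one 7 = true := by decide +kernel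
theorem cox_af : prodP [rows_a, rows_f, rows_a, rows_f] = rows_one :=
  prodP_eq_of_chunks rfl fun c hc => match c, hc with
    | 0, _ => cox_af_c0
    | 1, _ => cox_af_c1
    | 2, _ => cox_af_c2
    | 3, _ => cox_af_c3
    | 4, _ => cox_af_c4
    | 5, _ => cox_af_c5
    | 6, _ => cox_af_c6
    | 7, _ => cox_af_c7
    | n + 8, h => absurd h (by omega)

lemma cox_ag_c0 : chunkOk [rows_a, rows_g, rows_a, rows_g] rows_one 0 = true := by decide +kernel
lemma cox_ag_c1 : chunkOk [rows_a, rows_g, rows_a, rows_g] rows_one 1 = true := by decide +kernel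
lemma cox_ag_c2 : chunkOk [rows_a, rows_g, rows_a, rows_g] rows_one 2 = true := by decide +kernel
lemma cox_ag_c3 : chunkOk [rows_a, rows_g, rows_a, rows_g] rows_one 3 = true := by decide +kernel
lemma cox_ag_c4 : chunkOk [rows_a, rows_g, rows_a, rows_g] rows_one 4 = true := by decide +kernel
lemma cox_ag_c5 : chunkOk [rows_a, rows_g, rows_a, rows_g] rows_one 5 = true := by decide +kernel
lemma cox_ag_c6 : chunkOk [rows_a, rows_g, rows_a, rows_g] rows_one 6 = true := by decide +kernel
lemma cox_ag_c7 : chunkOk [rows_a, rows_g, rows_a, rows_g] rows_one 7 = true := by decide +kernel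
theorem cox_ag : prodP [rows_a, rows_g, rows_a, rows_g] = rows_one :=
  prodP_eq_of_chunks rfl fun c hc => match c, hc with
    | 0, _ => cox_ag_c0
    | 1, _ => cox_ag_c1
    | 2, _ => cox_ag_c2
    | 3, _ => cox_ag_c3
    | 4, _ => cox_ag_c4
    | 5, _ => cox_ag_c5
    | 6, _ => cox_ag_c6
    | 7, _ => cox_ag_c7
    | n + 8, h => absurd h (by omega)

lemma cox_ah_c0 : chunkOk [rows_a, rows_h, rows_a, rows_h] rows_one 0 = true := by decide +kernel
lemma cox_ah_c1 : chunkOk [rows_a, rows_h, rows_a, rows_h] rows_one 1 = true := by decide +kernel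
lemma cox_ah_c2 : chunkOk [rows_a, rows_h, rows_a, rows_h] rows_one 2 = true := by decide +kernel
lemma cox_ah_c3 : chunkOk [rows_a, rows_h, rows_a, rows_h] rows_one 3 = true := by decide +kernel
lemma cox_ah_c4 : chunkOk [rows_a, rows_h, rows_a, rows_h] rows_one 4 = true := by decide +kernel
lemma cox_ah_c5 : chunkOk [rows_a, rows_h, rows_a, rows_h] rows_one 5 = true := by decide +kernel
lemma cox_ah_c6 : chunkOk [rows_a, rows_h, rows_a, rows_h] rows_one 6 = true := by decide +kernel
lemma cox_ah_c7 : chunkOk [rows_a, rows_h, rows_a, rows_h] rows_one 7 = true := by decide +kernel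
theorem cox_ah : prodP [rows_a, rows_h, rows_a, rows_h] = rows_one :=
  prodP_eq_of_chunks rfl fun c hc => match c, hc with
    | 0, _ => cox_ah_c0
    | 1, _ => cox_ah_c1
    | 2, _ => cox_ah_c2
    | 3, _ => cox_ah_c3
    | 4, _ => cox_ah_c4
    | 5, _ => cox_ah_c5
    | 6, _ => cox_ah_c6
    | 7, _ => cox_ah_c7
    | n + 8, h => absurd h (by omega)

lemma cox_ai_c0 : chunkOk [rows_a, rows_i, rows_a, rows_i] rows_one 0 = true := by decide +kernel
lemma cox_ai_c1 : chunkOk [rows_a, rows_i, rows_a, rows_i] rows_one 1 = true := by decide +kernel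
lemma cox_ai_c2 : chunkOk [rows_a, rows_i, rows_a, rows_i] rows_one 2 = true := by decide +kernel
lemma cox_ai_c3 : chunkOk [rows_a, rows_i, rows_a, rows_i] rows_one 3 = true := by decide +kernel
lemma cox_ai_c4 : chunkOk [rows_a, rows_i, rows_a, rows_i] rows_one 4 = true := by decide +kernel
lemma cox_ai_c5 : chunkOk [rows_a, rows_i, rows_a, rows_i] rows_one 5 = true := by decide +kernel
lemma cox_ai_c6 : chunkOk [rows_a, rows_i, rows_a, rows_i] rows_one 6 = true := by decide +kernel
lemma cox_ai_c7 : chunkOk [rows_a, rows_i, rows_a, rows_i] rows_one 7 = true := by decide +kernel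
theorem cox_ai : prodP [rows_a, rows_i, rows_a, rows_i] = rows_one :=
  prodP_eq_of_chunks rfl fun c hc => match c, hc with
    | 0, _ => cox_ai_c0
    | 1, _ => cox_ai_c1
    | 2, _ => cox_ai_c2
    | 3, _ => cox_ai_c3
    | 4, _ => cox_ai_c4
    | 5, _ => cox_ai_c5
    | 6, _ => cox_ai_c6
    | 7, _ => cox_ai_c7
    | n + 8, h => absurd h (by omega)

end CfsgLib.SporRecognition.Fi22Rep
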