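import Cfsg.Agent.Lib.SporRecognition.Fi22Rep.Packed
import Cfsg.Agent.Lib.SporRecognition.Fi22Rep.Powers

/-!
Coxeter relations of Fi22 in the 78-dimensional representation.
-/

set_option autoImplicit false
set_option maxRecDepth 20000

namespace CfsgLib.SporRecognition.Fi22Rep

lemma sq_b_c0 : chunkOk [rows_b, rows_b] rows_one 0 = true := by decide +kernel
lemma sq_b_c1 : chunkOk [rows_b, rows_b] rows_one 1 = true := by decide +kernel
lemma sq_b_c2 : chunkOk [rows_b, rows_b] rows_one 2 = true := by decide +kernel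
lemma sq_b_c3 : chunkOk [rows_b, rows_b] rows_one 3 = true := by decide +kernel
lemma sq_b_c4 : chunkOk [rows_b, rows_b] rows_one 4 = true := by decide +kernel
lemma sq_b_c5 : chunkOk [rows_b, rows_b] rows_one 5 = true := by decide +kernel
lemma sq_b_c6 : chunkOk [rows_b, rows_b] rows_one 6 = true := by decide +kernel
lemma sq_b_c7 : chunkOk [rows_b, rows_b] rows_one 7 = true := by decide +kernel
theorem sq_b : prodP [rows_b, rows_b] = rows_one :=
  prodP_eq_of_chunks rfl fun c hc => match c, hc with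
    | 0, _ => sq_b_c0
    | 1, _ => sq_b_c1
    | 2, _ => sq_b_c2
    | 3, _ => sq_b_c3
    | 4, _ => sq_b_c4
    | 5, _ => sq_b_c5
    | 6, _ => sq_b_c6
    | 7, _ => sq_b_c7
    | n + 8, h => absurd h (by omega)

lemma cox_bc_c0 : chunkOk [rows_b, rows_c, rows_b, rows_c, rows_b, rows_c] rows_one 0 = true := by decide +kernel
lemma cox_bc_c1 : chunkOk [rows_b, rows_c, rows_b, rows_c, rows_b, rows_c] rows_one 1 = true := by decide +kernel
lemma cox_bc_c2 : chunkOk [rows_b, rows_c, rows_b, rows_c, rows_b, rows_c] rows_one 2 = true := by decide +kernel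
lemma cox_bc_c3 : chunkOk [rows_b, rows_c, rows_b, rows_c, rows_b, rows_c] rows_one 3 = true := by decide +kernel
lemma cox_bc_c4 : chunkOk [rows_b, rows_c, rows_b, rows_c, rows_b, rows_c] rows_one 4 = true := by decide +kernel
lemma cox_bc_c5 : chunkOk [rows_b, rows_c, rows_b, rows_c, rows_b, rows_c] rows_one 5 = true := by decide +kernel
lemma cox_bc_c6 : chunkOk [rows_b, rows_c, rows_b, rows_c, rows_b, rows_c] rows_one 6 = true := by decide +kernel
lemma cox_bc_c7 : chunkOk [rows_b, rows_c, rows_b, rows_c, rows_b, rows_c] rows_one 7 = true := by decide +kernel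
theorem cox_bc : prodP [rows_b, rows_c, rows_b, rows_c, rows_b, rows_c] = rows_one :=
  prodP_eq_of_chunks rfl fun c hc => match c, hc with
    | 0, _ => cox_bc_c0
    | 1, _ => cox_bc_c1
    | 2, _ => cox_bc_c2
    | 3, _ => cox_bc_c3
    | 4, _ => cox_bc_c4
    | 5, _ => cox_bc_c5
    | 6, _ => cox_bc_c6
    | 7, _ => cox_bc_c7
    | n + 8, h => absurd h (by omega)

lemma cox_bd_c0 : chunkOk [rows_b, rows_d, rows_b, rows_d] rows_one 0 = true := by decide +kernel
lemma cox_bd_c1 : chunkOk [rows_b, rows_d, rows_b, rows_d] rows_one 1 = true := by decide +kernel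
lemma cox_bd_c2 : chunkOk [rows_b, rows_d, rows_b, rows_d] rows_one 2 = true := by decide +kernel
lemma cox_bd_c3 : chunkOk [rows_b, rows_d, rows_b, rows_d] rows_one 3 = true := by decide +kernel
lemma cox_bd_c4 : chunkOk [rows_b, rows_d, rows_b, rows_d] rows_one 4 = true := by decide +kernel
lemma cox_bd_c5 : chunkOk [rows_b, rows_d, rows_b, rows_d] rows_one 5 = true := by decide +kernel
lemma cox_bd_c6 : chunkOk [rows_b, rows_d, rows_b, rows_d] rows_one 6 = true := by decide +kernel
lemma cox_bd_c7 : chunkOk [rows_b, rows_d, rows_b, rows_d] rows_one 7 = true := by decide +kernel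
theorem cox_bd : prodP [rows_b, rows_d, rows_b, rows_d] = rows_one :=
  prodP_eq_of_chunks rfl fun c hc => match c, hc with
    | 0, _ => cox_bd_c0
    | 1, _ => cox_bd_c1
    | 2, _ => cox_bd_c2
    | 3, _ => cox_bd_c3
    | 4, _ => cox_bd_c4
    | 5, _ => cox_bd_c5
    | 6, _ => cox_bd_c6
    | 7, _ => cox_bd_c7
    | n + 8, h => absurd h (by omega)

lemma cox_be_c0 : chunkOk [rows_b, rows_e, rows_b, rows_e] rows_one 0 = true := by decide +kernel
lemma cox_be_c1 : chunkOk [rows_b, rows_e, rows_b, rows_e] rows_one 1 = true := by decide +kernel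
lemma cox_be_c2 : chunkOk [rows_b, rows_e, rows_b, rows_e] rows_one 2 = true := by decide +kernel
lemma cox_be_c3 : chunkOk [rows_b, rows_e, rows_b, rows_e] rows_one 3 = true := by decide +kernel
lemma cox_be_c4 : chunkOk [rows_b, rows_e, rows_b, rows_e] rows_one 4 = true := by decide +kernel
lemma cox_be_c5 : chunkOk [rows_b, rows_e, rows_b, rows_e] rows_one 5 = true := by decide +kernel
lemma cox_be_c6 : chunkOk [rows_b, rows_e, rows_b, rows_e] rows_one 6 = true := by decide +kernel
lemma cox_be_c7 : chunkOk [rows_b, rows_e, rows_b, rows_e] rows_one 7 = true := by decide +kernel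
theorem cox_be : prodP [rows_b, rows_e, rows_b, rows_e] = rows_one :=
  prodP_eq_of_chunks rfl fun c hc => match c, hc with
    | 0, _ => cox_be_c0
    | 1, _ => cox_be_c1
    | 2, _ => cox_be_c2
    | 3, _ => cox_be_c3
    | 4, _ => cox_be_c4
    | 5, _ => cox_be_c5
    | 6, _ => cox_be_c6
    | 7, _ => cox_be_c7
    | n + 8, h => absurd h (by omega)

lemma cox_bf_c0 : chunkOk [rows_b, rows_f, rows_b, rows_f] rows_one 0 = true := by decide +kernel
lemma cox_bf_c1 : chunkOk [rows_b, rows_f, rows_b, rows_f] rows_one 1 = true := by decide +kernel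
lemma cox_bf_c2 : chunkOk [rows_b, rows_f, rows_b, rows_f] rows_one 2 = true := by decide +kernel
lemma cox_bf_c3 : chunkOk [rows_b, rows_f, rows_b, rows_f] rows_one 3 = true := by decide +kernel
lemma cox_bf_c4 : chunkOk [rows_b, rows_f, rows_b, rows_f] rows_one 4 = true := by decide +kernel
lemma cox_bf_c5 : chunkOk [rows_b, rows_f, rows_b, rows_f] rows_one 5 = true := by decide +kernel
lemma cox_bf_c6 : chunkOk [rows_b, rows_f, rows_b, rows_f] rows_one 6 = true := by decide +kernel
lemma cox_bf_c7 : chunkOk [rows_b, rows_f, rows_b, rows_f] rows_one 7 = true := by decide +kernel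
theorem cox_bf : prodP [rows_b, rows_f, rows_b, rows_f] = rows_one :=
  prodP_eq_of_chunks rfl fun c hc => match c, hc with
    | 0, _ => cox_bf_c0
    | 1, _ => cox_bf_c1
    | 2, _ => cox_bf_c2
    | 3, _ => cox_bf_c3
    | 4, _ => cox_bf_c4
    | 5, _ => cox_bf_c5
    | 6, _ => cox_bf_c6
    | 7, _ => cox_bf_c7
    | n + 8, h => absurd h (by omega)

lemma cox_bg_c0 : chunkOk [rows_b, rows_g, rows_b, rows_g] rows_one 0 = true := by decide +kernel
lemma cox_bg_c1 : chunkOk [rows_b, rows_g, rows_b, rows_g] rows_one 1 = true := by decide +kernel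
lemma cox_bg_c2 : chunkOk [rows_b, rows_g, rows_b, rows_g] rows_one 2 = true := by decide +kernel
lemma cox_bg_c3 : chunkOk [rows_b, rows_g, rows_b, rows_g] rows_one 3 = true := by decide +kernel
lemma cox_bg_c4 : chunkOk [rows_b, rows_g, rows_b, rows_g] rows_one 4 = true := by decide +kernel
lemma cox_bg_c5 : chunkOk [rows_b, rows_g, rows_b, rows_g] rows_one 5 = true := by decide +kernel
lemma cox_bg_c6 : chunkOk [rows_b, rows_g, rows_b, rows_g] rows_one 6 = true := by decide +kernel
lemma cox_bg_c7 : chunkOk [rows_b, rows_g, rows_b, rows_g] rows_one 7 = true := by decide +kernel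
theorem cox_bg : prodP [rows_b, rows_g, rows_b, rows_g] = rows_one :=
  prodP_eq_of_chunks rfl fun c hc => match c, hc with
    | 0, _ => cox_bg_c0
    | 1, _ => cox_bg_c1
    | 2, _ => cox_bg_c2
    | 3, _ => cox_bg_c3
    | 4, _ => cox_bg_c4
    | 5, _ => cox_bg_c5
    | 6, _ => cox_bg_c6
    | 7, _ => cox_bg_c7
    | n + 8, h => absurd h (by omega)

lemma cox_bh_c0 : chunkOk [rows_b, rows_h, rows_b, rows_h] rows_one 0 = true := by decide +kernel
lemma cox_bh_c1 : chunkOk [rows_b, rows_h, rows_b, rows_h] rows_one 1 = true := by decide +kernel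
lemma cox_bh_c2 : chunkOk [rows_b, rows_h, rows_b, rows_h] rows_one 2 = true := by decide +kernel
lemma cox_bh_c3 : chunkOk [rows_b, rows_h, rows_b, rows_h] rows_one 3 = true := by decide +kernel
lemma cox_bh_c4 : chunkOk [rows_b, rows_h, rows_b, rows_h] rows_one 4 = true := by decide +kernel
lemma cox_bh_c5 : chunkOk [rows_b, rows_h, rows_b, rows_h] rows_one 5 = true := by decide +kernel
lemma cox_bh_c6 : chunkOk [rows_b, rows_h, rows_b, rows_h] rows_one 6 = true := by decide +kernel
lemma cox_bh_c7 : chunkOk [rows_b, rows_h, rows_b, rows_h] rows_one 7 = true := by decide +kernel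
theorem cox_bh : prodP [rows_b, rows_h, rows_b, rows_h] = rows_one :=
  prodP_eq_of_chunks rfl fun c hc => match c, hc with
    | 0, _ => cox_bh_c0
    | 1, _ => cox_bh_c1
    | 2, _ => cox_bh_c2
    | 3, _ => cox_bh_c3
    | 4, _ => cox_bh_c4
    | 5, _ => cox_bh_c5
    | 6, _ => cox_bh_c6
    | 7, _ => cox_bh_c7
    | n + 8, h => absurd h (by omega)

lemma cox_bi_c0 : chunkOk [rows_b, rows_i, rows_b, rows_i] rows_one 0 = true := by decide +kernel
lemma cox_bi_c1 : chunkOk [rows_b, rows_i, rows_b, rows_i] rows_one 1 = true := by decide +kernel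
lemma cox_bi_c2 : chunkOk [rows_b, rows_i, rows_b, rows_i] rows_one 2 = true := by decide +kernel
lemma cox_bi_c3 : chunkOk [rows_b, rows_i, rows_b, rows_i] rows_one 3 = true := by decide +kernel
lemma cox_bi_c4 : chunkOk [rows_b, rows_i, rows_b, rows_i] rows_one 4 = true := by decide +kernel
lemma cox_bi_c5 : chunkOk [rows_b, rows_i, rows_b, rows_i] rows_one 5 = true := by decide +kernel
lemma cox_bi_c6 : chunkOk [rows_b, rows_i, rows_b, rows_i] rows_one 6 = true := by decide +kernel
lemma cox_bi_c7 : chunkOk [rows_b, rows_i, rows_b, rows_i] rows_one 7 = true := by decide +kernel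
theorem cox_bi : prodP [rows_b, rows_i, rows_b, rows_i] = rows_one :=
  prodP_eq_of_chunks rfl fun c hc => match c, hc with
    | 0, _ => cox_bi_c0
    | 1, _ => cox_bi_c1
    | 2, _ => cox_bi_c2
    | 3, _ => cox_bi_c3
    | 4, _ => cox_bi_c4
    | 5, _ => cox_bi_c5
    | 6, _ => cox_bi_c6
    | 7, _ => cox_bi_c7
    | n + 8, h => absurd h (by omega)

lemma sq_c_c0 : chunkOk [rows_c, rows_c] rows_one 0 = true := by decide +kernel
lemma sq_c_c1 : chunkOk [rows_c, rows_c] rows_one 1 = true := by decide +kernel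
lemma sq_c_c2 : chunkOk [rows_c, rows_c] rows_one 2 = true := by decide +kernel
lemma sq_c_c3 : chunkOk [rows_c, rows_c] rows_one 3 = true := by decide +kernel
lemma sq_c_c4 : chunkOk [rows_c, rows_c] rows_one 4 = true := by decide +kernel
lemma sq_c_c5 : chunkOk [rows_c, rows_c] rows_one 5 = true := by decide +kernel
lemma sq_c_c6 : chunkOk [rows_c, rows_c] rows_one 6 = true := by decide +kernel
lemma sq_c_c7 : chunkOk [rows_c, rows_c] rows_one 7 = true := by decide +kernel
theorem sq_c : prodP [rows_c, rows_c] = rows_one :=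
  prodP_eq_of_chunks rfl fun c hc => match c, hc with
    | 0, _ => sq_c_c0
    | 1, _ => sq_c_c1
    | 2, _ => sq_c_c2
    | 3, _ => sq_c_c3
    | 4, _ => sq_c_c4
    | 5, _ => sq_c_c5
    | 6, _ => sq_c_c6
    | 7, _ => sq_c_c7
    | n + 8, h => absurd h (by omega)

end CfsgLib.SporRecognition.Fi22Rep
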