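import Cfsg.Agent.Lib.SporRecognition.Fi22Rep.Packed
import Cfsg.Agent.Lib.SporRecognition.Fi22Rep.Powers

/-!
Coxeter relations of Fi22 in the 78-dimensional representation.
-/

set_option autoImplicit false
set_option maxRecDepth 20000

namespace CfsgLib.SporRecognition.Fi22Rep

lemma cox_cd_c0 : chunkOk [rows_c, rows_d, rows_c, rows_d, rows_c, rows_d] rows_one 0 = true := by decide +kernel
lemma cox_cd_c1 : chunkOk [rows_c, rows_d, rows_c, rows_d, rows_c, rows_d] rows_one 1 = true := by decide +kernel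
lemma cox_cd_c2 : chunkOk [rows_c, rows_d, rows_c, rows_d, rows_c, rows_d] rows_one 2 = true := by decide +kernel
lemma cox_cd_c3 : chunkOk [rows_c, rows_d, rows_c, rows_d, rows_c, rows_d] rows_one 3 = true := by decide +kernel
lemma cox_cd_c4 : chunkOk [rows_c, rows_d, rows_c, rows_d, rows_c, rows_d] rows_one 4 = true := by decide +kernel
lemma cox_cd_c5 : chunkOk [rows_c, rows_d, rows_c, rows_d, rows_c, rows_d] rows_one 5 = true := by decide +kernel
lemma cox_cd_c6 : chunkOk [rows_c, rows_d, rows_c, rows_d, rows_c, rows_d] rows_one 6 = true := by decide +kernel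
lemma cox_cd_c7 : chunkOk [rows_c, rows_d, rows_c, rows_d, rows_c, rows_d] rows_one 7 = true := by decide +kernel
theorem cox_cd : prodP [rows_c, rows_d, rows_c, rows_d, rows_c, rows_d] = rows_one :=
  prodP_eq_of_chunks rfl fun c hc => match c, hc with
    | 0, _ => cox_cd_c0
    | 1, _ => cox_cd_c1
    | 2, _ => cox_cd_c2
    | 3, _ => cox_cd_c3
    | 4, _ => cox_cd_c4
    | 5, _ => cox_cd_c5
    | 6, _ => cox_cd_c6
    | 7, _ => cox_cd_c7
    | n + 8, h => absurd h (by omega)

lemma cox_ce_c0 : chunkOk [rows_c, rows_e, rows_c, rows_e] rows_one 0 = true := by decide +kernel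
lemma cox_ce_c1 : chunkOk [rows_c, rows_e, rows_c, rows_e] rows_one 1 = true := by decide +kernel
lemma cox_ce_c2 : chunkOk [rows_c, rows_e, rows_c, rows_e] rows_one 2 = true := by decide +kernel
lemma cox_ce_c3 : chunkOk [rows_c, rows_e, rows_c, rows_e] rows_one 3 = true := by decide +kernel
lemma cox_ce_c4 : chunkOk [rows_c, rows_e, rows_c, rows_e] rows_one 4 = true := by decide +kernel
lemma cox_ce_c5 : chunkOk [rows_c, rows_e, rows_c, rows_e] rows_one 5 = true := by decide +kernel
lemma cox_ce_c6 : chunkOk [rows_c, rows_e, rows_c, rows_e] rows_one 6 = true := by decide +kernel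
lemma cox_ce_c7 : chunkOk [rows_c, rows_e, rows_c, rows_e] rows_one 7 = true := by decide +kernel
theorem cox_ce : prodP [rows_c, rows_e, rows_c, rows_e] = rows_one :=
  prodP_eq_of_chunks rfl fun c hc => match c, hc with
    | 0, _ => cox_ce_c0
    | 1, _ => cox_ce_c1
    | 2, _ => cox_ce_c2
    | 3, _ => cox_ce_c3
    | 4, _ => cox_ce_c4
    | 5, _ => cox_ce_c5
    | 6, _ => cox_ce_c6
    | 7, _ => cox_ce_c7
    | n + 8, h => absurd h (by omega)

lemma cox_cf_c0 : chunkOk [rows_c, rows_f, rows_c, rows_f] rows_one 0 = true := by decide +kernel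
lemma cox_cf_c1 : chunkOk [rows_c, rows_f, rows_c, rows_f] rows_one 1 = true := by decide +kernel
lemma cox_cf_c2 : chunkOk [rows_c, rows_f, rows_c, rows_f] rows_one 2 = true := by decide +kernel
lemma cox_cf_c3 : chunkOk [rows_c, rows_f, rows_c, rows_f] rows_one 3 = true := by decide +kernel
lemma cox_cf_c4 : chunkOk [rows_c, rows_f, rows_c, rows_f] rows_one 4 = true := by decide +kernel
lemma cox_cf_c5 : chunkOk [rows_c, rows_f, rows_c, rows_f] rows_one 5 = true := by decide +kernel
lemma cox_cf_c6 : chunkOk [rows_c, rows_f, rows_c, rows_f] rows_one 6 = true := by decide +kernel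
lemma cox_cf_c7 : chunkOk [rows_c, rows_f, rows_c, rows_f] rows_one 7 = true := by decide +kernel
theorem cox_cf : prodP [rows_c, rows_f, rows_c, rows_f] = rows_one :=
  prodP_eq_of_chunks rfl fun c hc => match c, hc with
    | 0, _ => cox_cf_c0
    | 1, _ => cox_cf_c1
    | 2, _ => cox_cf_c2
    | 3, _ => cox_cf_c3
    | 4, _ => cox_cf_c4
    | 5, _ => cox_cf_c5
    | 6, _ => cox_cf_c6
    | 7, _ => cox_cf_c7
    | n + 8, h => absurd h (by omega)

lemma cox_cg_c0 : chunkOk [rows_c, rows_g, rows_c, rows_g] rows_one 0 = true := by decide +kernel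
lemma cox_cg_c1 : chunkOk [rows_c, rows_g, rows_c, rows_g] rows_one 1 = true := by decide +kernel
lemma cox_cg_c2 : chunkOk [rows_c, rows_g, rows_c, rows_g] rows_one 2 = true := by decide +kernel
lemma cox_cg_c3 : chunkOk [rows_c, rows_g, rows_c, rows_g] rows_one 3 = true := by decide +kernel
lemma cox_cg_c4 : chunkOk [rows_c, rows_g, rows_c, rows_g] rows_one 4 = true := by decide +kernel
lemma cox_cg_c5 : chunkOk [rows_c, rows_g, rows_c, rows_g] rows_one 5 = true := by decide +kernel
lemma cox_cg_c6 : chunkOk [rows_c, rows_g, rows_c, rows_g] rows_one 6 = true := by decide +kernel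
lemma cox_cg_c7 : chunkOk [rows_c, rows_g, rows_c, rows_g] rows_one 7 = true := by decide +kernel
theorem cox_cg : prodP [rows_c, rows_g, rows_c, rows_g] = rows_one :=
  prodP_eq_of_chunks rfl fun c hc => match c, hc with
    | 0, _ => cox_cg_c0
    | 1, _ => cox_cg_c1
    | 2, _ => cox_cg_c2
    | 3, _ => cox_cg_c3
    | 4, _ => cox_cg_c4
    | 5, _ => cox_cg_c5
    | 6, _ => cox_cg_c6
    | 7, _ => cox_cg_c7
    | n + 8, h => absurd h (by omega)

lemma cox_ch_c0 : chunkOk [rows_c, rows_h, rows_c, rows_h] rows_one 0 = true := by decide +kernel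
lemma cox_ch_c1 : chunkOk [rows_c, rows_h, rows_c, rows_h] rows_one 1 = true := by decide +kernel
lemma cox_ch_c2 : chunkOk [rows_c, rows_h, rows_c, rows_h] rows_one 2 = true := by decide +kernel
lemma cox_ch_c3 : chunkOk [rows_c, rows_h, rows_c, rows_h] rows_one 3 = true := by decide +kernel
lemma cox_ch_c4 : chunkOk [rows_c, rows_h, rows_c, rows_h] rows_one 4 = true := by decide +kernel
lemma cox_ch_c5 : chunkOk [rows_c, rows_h, rows_c, rows_h] rows_one 5 = true := by decide +kernel
lemma cox_ch_c6 : chunkOk [rows_c, rows_h, rows_c, rows_h] rows_one 6 = true := by decide +kernel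
lemma cox_ch_c7 : chunkOk [rows_c, rows_h, rows_c, rows_h] rows_one 7 = true := by decide +kernel
theorem cox_ch : prodP [rows_c, rows_h, rows_c, rows_h] = rows_one :=
  prodP_eq_of_chunks rfl fun c hc => match c, hc with
    | 0, _ => cox_ch_c0
    | 1, _ => cox_ch_c1
    | 2, _ => cox_ch_c2
    | 3, _ => cox_ch_c3
    | 4, _ => cox_ch_c4
    | 5, _ => cox_ch_c5
    | 6, _ => cox_ch_c6
    | 7, _ => cox_ch_c7
    | n + 8, h => absurd h (by omega)

lemma cox_ci_c0 : chunkOk [rows_c, rows_i, rows_c, rows_i] rows_one 0 = true := by decide +kernel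
lemma cox_ci_c1 : chunkOk [rows_c, rows_i, rows_c, rows_i] rows_one 1 = true := by decide +kernel
lemma cox_ci_c2 : chunkOk [rows_c, rows_i, rows_c, rows_i] rows_one 2 = true := by decide +kernel
lemma cox_ci_c3 : chunkOk [rows_c, rows_i, rows_c, rows_i] rows_one 3 = true := by decide +kernel
lemma cox_ci_c4 : chunkOk [rows_c, rows_i, rows_c, rows_i] rows_one 4 = true := by decide +kernel
lemma cox_ci_c5 : chunkOk [rows_c, rows_i, rows_c, rows_i] rows_one 5 = true := by decide +kernel
lemma cox_ci_c6 : chunkOk [rows_c, rows_i, rows_c, rows_i] rows_one 6 = true := by decide +kernel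
lemma cox_ci_c7 : chunkOk [rows_c, rows_i, rows_c, rows_i] rows_one 7 = true := by decide +kernel
theorem cox_ci : prodP [rows_c, rows_i, rows_c, rows_i] = rows_one :=
  prodP_eq_of_chunks rfl fun c hc => match c, hc with
    | 0, _ => cox_ci_c0
    | 1, _ => cox_ci_c1
    | 2, _ => cox_ci_c2
    | 3, _ => cox_ci_c3
    | 4, _ => cox_ci_c4
    | 5, _ => cox_ci_c5
    | 6, _ => cox_ci_c6
    | 7, _ => cox_ci_c7
    | n + 8, h => absurd h (by omega)

lemma sq_d_c0 : chunkOk [rows_d, rows_d] rows_one 0 = true := by decide +kernel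
lemma sq_d_c1 : chunkOk [rows_d, rows_d] rows_one 1 = true := by decide +kernel
lemma sq_d_c2 : chunkOk [rows_d, rows_d] rows_one 2 = true := by decide +kernel
lemma sq_d_c3 : chunkOk [rows_d, rows_d] rows_one 3 = true := by decide +kernel
lemma sq_d_c4 : chunkOk [rows_d, rows_d] rows_one 4 = true := by decide +kernel
lemma sq_d_c5 : chunkOk [rows_d, rows_d] rows_one 5 = true := by decide +kernel
lemma sq_d_c6 : chunkOk [rows_d, rows_d] rows_one 6 = true := by decide +kernel
lemma sq_d_c7 : chunkOk [rows_d, rows_d] rows_one 7 = true := by decide +kernel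
theorem sq_d : prodP [rows_d, rows_d] = rows_one :=
  prodP_eq_of_chunks rfl fun c hc => match c, hc with
    | 0, _ => sq_d_c0
    | 1, _ => sq_d_c1
    | 2, _ => sq_d_c2
    | 3, _ => sq_d_c3
    | 4, _ => sq_d_c4
    | 5, _ => sq_d_c5
    | 6, _ => sq_d_c6
    | 7, _ => sq_d_c7
    | n + 8, h => absurd h (by omega)

lemma cox_de_c0 : chunkOk [rows_d, rows_e, rows_d, rows_e, rows_d, rows_e] rows_one 0 = true := by decide +kernel
lemma cox_de_c1 : chunkOk [rows_d, rows_e, rows_d, rows_e, rows_d, rows_e] rows_one 1 = true := by decide +kernel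
lemma cox_de_c2 : chunkOk [rows_d, rows_e, rows_d, rows_e, rows_d, rows_e] rows_one 2 = true := by decide +kernel
lemma cox_de_c3 : chunkOk [rows_d, rows_e, rows_d, rows_e, rows_d, rows_e] rows_one 3 = true := by decide +kernel
lemma cox_de_c4 : chunkOk [rows_d, rows_e, rows_d, rows_e, rows_d, rows_e] rows_one 4 = true := by decide +kernel
lemma cox_de_c5 : chunkOk [rows_d, rows_e, rows_d, rows_e, rows_d, rows_e] rows_one 5 = true := by decide +kernel
lemma cox_de_c6 : chunkOk [rows_d, rows_e, rows_d, rows_e, rows_d, rows_e] rows_one 6 = true := by decide +kernel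
lemma cox_de_c7 : chunkOk [rows_d, rows_e, rows_d, rows_e, rows_d, rows_e] rows_one 7 = true := by decide +kernel
theorem cox_de : prodP [rows_d, rows_e, rows_d, rows_e, rows_d, rows_e] = rows_one :=
  prodP_eq_of_chunks rfl fun c hc => match c, hc with
    | 0, _ => cox_de_c0
    | 1, _ => cox_de_c1
    | 2, _ => cox_de_c2
    | 3, _ => cox_de_c3
    | 4, _ => cox_de_c4
    | 5, _ => cox_de_c5
    | 6, _ => cox_de_c6
    | 7, _ => cox_de_c7
    | n + 8, h => absurd h (by omega)

lemma cox_df_c0 : chunkOk [rows_d, rows_f, rows_d, rows_f] rows_one 0 = true := by decide +kernel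
lemma cox_df_c1 : chunkOk [rows_d, rows_f, rows_d, rows_f] rows_one 1 = true := by decide +kernel
lemma cox_df_c2 : chunkOk [rows_d, rows_f, rows_d, rows_f] rows_one 2 = true := by decide +kernel
lemma cox_df_c3 : chunkOk [rows_d, rows_f, rows_d, rows_f] rows_one 3 = true := by decide +kernel
lemma cox_df_c4 : chunkOk [rows_d, rows_f, rows_d, rows_f] rows_one 4 = true := by decide +kernel
lemma cox_df_c5 : chunkOk [rows_d, rows_f, rows_d, rows_f] rows_one 5 = true := by decide +kernel
lemma cox_df_c6 : chunkOk [rows_d, rows_f, rows_d, rows_f] rows_one 6 = true := by decide +kernel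
lemma cox_df_c7 : chunkOk [rows_d, rows_f, rows_d, rows_f] rows_one 7 = true := by decide +kernel
theorem cox_df : prodP [rows_d, rows_f, rows_d, rows_f] = rows_one :=
  prodP_eq_of_chunks rfl fun c hc => match c, hc with
    | 0, _ => cox_df_c0
    | 1, _ => cox_df_c1
    | 2, _ => cox_df_c2
    | 3, _ => cox_df_c3
    | 4, _ => cox_df_c4
    | 5, _ => cox_df_c5
    | 6, _ => cox_df_c6
    | 7, _ => cox_df_c7
    | n + 8, h => absurd h (by omega)

end CfsgLib.SporRecognition.Fi22Rep
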