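import Cfsg.Agent.Lib.SporRecognition.Fi22Rep.Packed
import Cfsg.Agent.Lib.SporRecognition.Fi22Rep.Powers

/-!
Coxeter relations of Fi22 in the 78-dimensional representation.
-/

set_option autoImplicit false
set_option maxRecDepth 20000

namespace CfsgLib.SporRecognition.Fi22Rep

lemma cox_dg_c0 : chunkOk [rows_d, rows_g, rows_d, rows_g] rows_one 0 = true := by decide +kernel
lemma cox_dg_c1 : chunkOk [rows_d, rows_g, rows_d, rows_g] rows_one 1 = true := by decide +kernel
lemma cox_dg_c2 : chunkOk [rows_d, rows_g, rows_d, rows_g] rows_one 2 = true := by decide +kernel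
lemma cox_dg_c3 : chunkOk [rows_d, rows_g, rows_d, rows_g] rows_one 3 = true := by decide +kernel
lemma cox_dg_c4 : chunkOk [rows_d, rows_g, rows_d, rows_g] rows_one 4 = true := by decide +kernel
lemma cox_dg_c5 : chunkOk [rows_d, rows_g, rows_d, rows_g] rows_one 5 = true := by decide +kernel
lemma cox_dg_c6 : chunkOk [rows_d, rows_g, rows_d, rows_g] rows_one 6 = true := by decide +kernel
lemma cox_dg_c7 : chunkOk [rows_d, rows_g, rows_d, rows_g] rows_one 7 = true := by decide +kernel
theorem cox_dg : prodP [rows_d, rows_g, rows_d, rows_g] = rows_one :=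
  prodP_eq_of_chunks rfl fun c hc => match c, hc with
    | 0, _ => cox_dg_c0
    | 1, _ => cox_dg_c1
    | 2, _ => cox_dg_c2
    | 3, _ => cox_dg_c3
    | 4, _ => cox_dg_c4
    | 5, _ => cox_dg_c5
    | 6, _ => cox_dg_c6
    | 7, _ => cox_dg_c7
    | n + 8, h => absurd h (by omega)

lemma cox_dh_c0 : chunkOk [rows_d, rows_h, rows_d, rows_h, rows_d, rows_h] rows_one 0 = true := by decide +kernel
lemma cox_dh_c1 : chunkOk [rows_d, rows_h, rows_d, rows_h, rows_d, rows_h] rows_one 1 = true := by decide +kernel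
lemma cox_dh_c2 : chunkOk [rows_d, rows_h, rows_d, rows_h, rows_d, rows_h] rows_one 2 = true := by decide +kernel
lemma cox_dh_c3 : chunkOk [rows_d, rows_h, rows_d, rows_h, rows_d, rows_h] rows_one 3 = true := by decide +kernel
lemma cox_dh_c4 : chunkOk [rows_d, rows_h, rows_d, rows_h, rows_d, rows_h] rows_one 4 = true := by decide +kernel
lemma cox_dh_c5 : chunkOk [rows_d, rows_h, rows_d, rows_h, rows_d, rows_h] rows_one 5 = true := by decide +kernel
lemma cox_dh_c6 : chunkOk [rows_d, rows_h, rows_d, rows_h, rows_d, rows_h] rows_one 6 = true := by decide +kernel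
lemma cox_dh_c7 : chunkOk [rows_d, rows_h, rows_d, rows_h, rows_d, rows_h] rows_one 7 = true := by decide +kernel
theorem cox_dh : prodP [rows_d, rows_h, rows_d, rows_h, rows_d, rows_h] = rows_one :=
  prodP_eq_of_chunks rfl fun c hc => match c, hc with
    | 0, _ => cox_dh_c0
    | 1, _ => cox_dh_c1
    | 2, _ => cox_dh_c2
    | 3, _ => cox_dh_c3
    | 4, _ => cox_dh_c4
    | 5, _ => cox_dh_c5
    | 6, _ => cox_dh_c6
    | 7, _ => cox_dh_c7
    | n + 8, h => absurd h (by omega)

lemma cox_di_c0 : chunkOk [rows_d, rows_i, rows_d, rows_i] rows_one 0 = true := by decide +kernel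
lemma cox_di_c1 : chunkOk [rows_d, rows_i, rows_d, rows_i] rows_one 1 = true := by decide +kernel
lemma cox_di_c2 : chunkOk [rows_d, rows_i, rows_d, rows_i] rows_one 2 = true := by decide +kernel
lemma cox_di_c3 : chunkOk [rows_d, rows_i, rows_d, rows_i] rows_one 3 = true := by decide +kernel
lemma cox_di_c4 : chunkOk [rows_d, rows_i, rows_d, rows_i] rows_one 4 = true := by decide +kernel
lemma cox_di_c5 : chunkOk [rows_d, rows_i, rows_d, rows_i] rows_one 5 = true := by decide +kernel
lemma cox_di_c6 : chunkOk [rows_d, rows_i, rows_d, rows_i] rows_one 6 = true := by decide +kernel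
lemma cox_di_c7 : chunkOk [rows_d, rows_i, rows_d, rows_i] rows_one 7 = true := by decide +kernel
theorem cox_di : prodP [rows_d, rows_i, rows_d, rows_i] = rows_one :=
  prodP_eq_of_chunks rfl fun c hc => match c, hc with
    | 0, _ => cox_di_c0
    | 1, _ => cox_di_c1
    | 2, _ => cox_di_c2
    | 3, _ => cox_di_c3
    | 4, _ => cox_di_c4
    | 5, _ => cox_di_c5
    | 6, _ => cox_di_c6
    | 7, _ => cox_di_c7
    | n + 8, h => absurd h (by omega)

lemma sq_e_c0 : chunkOk [rows_e, rows_e] rows_one 0 = true := by decide +kernel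
lemma sq_e_c1 : chunkOk [rows_e, rows_e] rows_one 1 = true := by decide +kernel
lemma sq_e_c2 : chunkOk [rows_e, rows_e] rows_one 2 = true := by decide +kernel
lemma sq_e_c3 : chunkOk [rows_e, rows_e] rows_one 3 = true := by decide +kernel
lemma sq_e_c4 : chunkOk [rows_e, rows_e] rows_one 4 = true := by decide +kernel
lemma sq_e_c5 : chunkOk [rows_e, rows_e] rows_one 5 = true := by decide +kernel
lemma sq_e_c6 : chunkOk [rows_e, rows_e] rows_one 6 = true := by decide +kernel
lemma sq_e_c7 : chunkOk [rows_e, rows_e] rows_one 7 = true := by decide +kernel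
theorem sq_e : prodP [rows_e, rows_e] = rows_one :=
  prodP_eq_of_chunks rfl fun c hc => match c, hc with
    | 0, _ => sq_e_c0
    | 1, _ => sq_e_c1
    | 2, _ => sq_e_c2
    | 3, _ => sq_e_c3
    | 4, _ => sq_e_c4
    | 5, _ => sq_e_c5
    | 6, _ => sq_e_c6
    | 7, _ => sq_e_c7
    | n + 8, h => absurd h (by omega)

lemma cox_ef_c0 : chunkOk [rows_e, rows_f, rows_e, rows_f, rows_e, rows_f] rows_one 0 = true := by decide +kernel
lemma cox_ef_c1 : chunkOk [rows_e, rows_f, rows_e, rows_f, rows_e, rows_f] rows_one 1 = true := by decide +kernel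
lemma cox_ef_c2 : chunkOk [rows_e, rows_f, rows_e, rows_f, rows_e, rows_f] rows_one 2 = true := by decide +kernel
lemma cox_ef_c3 : chunkOk [rows_e, rows_f, rows_e, rows_f, rows_e, rows_f] rows_one 3 = true := by decide +kernel
lemma cox_ef_c4 : chunkOk [rows_e, rows_f, rows_e, rows_f, rows_e, rows_f] rows_one 4 = true := by decide +kernel
lemma cox_ef_c5 : chunkOk [rows_e, rows_f, rows_e, rows_f, rows_e, rows_f] rows_one 5 = true := by decide +kernel
lemma cox_ef_c6 : chunkOk [rows_e, rows_f, rows_e, rows_f, rows_e, rows_f] rows_one 6 = true := by decide +kernel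
lemma cox_ef_c7 : chunkOk [rows_e, rows_f, rows_e, rows_f, rows_e, rows_f] rows_one 7 = true := by decide +kernel
theorem cox_ef : prodP [rows_e, rows_f, rows_e, rows_f, rows_e, rows_f] = rows_one :=
  prodP_eq_of_chunks rfl fun c hc => match c, hc with
    | 0, _ => cox_ef_c0
    | 1, _ => cox_ef_c1
    | 2, _ => cox_ef_c2
    | 3, _ => cox_ef_c3
    | 4, _ => cox_ef_c4
    | 5, _ => cox_ef_c5
    | 6, _ => cox_ef_c6
    | 7, _ => cox_ef_c7
    | n + 8, h => absurd h (by omega)

lemma cox_eg_c0 : chunkOk [rows_e, rows_g, rows_e, rows_g] rows_one 0 = true := by decide +kernel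
lemma cox_eg_c1 : chunkOk [rows_e, rows_g, rows_e, rows_g] rows_one 1 = true := by decide +kernel
lemma cox_eg_c2 : chunkOk [rows_e, rows_g, rows_e, rows_g] rows_one 2 = true := by decide +kernel
lemma cox_eg_c3 : chunkOk [rows_e, rows_g, rows_e, rows_g] rows_one 3 = true := by decide +kernel
lemma cox_eg_c4 : chunkOk [rows_e, rows_g, rows_e, rows_g] rows_one 4 = true := by decide +kernel
lemma cox_eg_c5 : chunkOk [rows_e, rows_g, rows_e, rows_g] rows_one 5 = true := by decide +kernel
lemma cox_eg_c6 : chunkOk [rows_e, rows_g, rows_e, rows_g] rows_one 6 = true := by decide +kernel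
lemma cox_eg_c7 : chunkOk [rows_e, rows_g, rows_e, rows_g] rows_one 7 = true := by decide +kernel
theorem cox_eg : prodP [rows_e, rows_g, rows_e, rows_g] = rows_one :=
  prodP_eq_of_chunks rfl fun c hc => match c, hc with
    | 0, _ => cox_eg_c0
    | 1, _ => cox_eg_c1
    | 2, _ => cox_eg_c2
    | 3, _ => cox_eg_c3
    | 4, _ => cox_eg_c4
    | 5, _ => cox_eg_c5
    | 6, _ => cox_eg_c6
    | 7, _ => cox_eg_c7
    | n + 8, h => absurd h (by omega)

lemma cox_eh_c0 : chunkOk [rows_e, rows_h, rows_e, rows_h] rows_one 0 = true := by decide +kernel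
lemma cox_eh_c1 : chunkOk [rows_e, rows_h, rows_e, rows_h] rows_one 1 = true := by decide +kernel
lemma cox_eh_c2 : chunkOk [rows_e, rows_h, rows_e, rows_h] rows_one 2 = true := by decide +kernel
lemma cox_eh_c3 : chunkOk [rows_e, rows_h, rows_e, rows_h] rows_one 3 = true := by decide +kernel
lemma cox_eh_c4 : chunkOk [rows_e, rows_h, rows_e, rows_h] rows_one 4 = true := by decide +kernel
lemma cox_eh_c5 : chunkOk [rows_e, rows_h, rows_e, rows_h] rows_one 5 = true := by decide +kernel
lemma cox_eh_c6 : chunkOk [rows_e, rows_h, rows_e, rows_h] rows_one 6 = true := by decide +kernel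
lemma cox_eh_c7 : chunkOk [rows_e, rows_h, rows_e, rows_h] rows_one 7 = true := by decide +kernel
theorem cox_eh : prodP [rows_e, rows_h, rows_e, rows_h] = rows_one :=
  prodP_eq_of_chunks rfl fun c hc => match c, hc with
    | 0, _ => cox_eh_c0
    | 1, _ => cox_eh_c1
    | 2, _ => cox_eh_c2
    | 3, _ => cox_eh_c3
    | 4, _ => cox_eh_c4
    | 5, _ => cox_eh_c5
    | 6, _ => cox_eh_c6
    | 7, _ => cox_eh_c7
    | n + 8, h => absurd h (by omega)

lemma cox_ei_c0 : chunkOk [rows_e, rows_i, rows_e, rows_i] rows_one 0 = true := by decide +kernel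
lemma cox_ei_c1 : chunkOk [rows_e, rows_i, rows_e, rows_i] rows_one 1 = true := by decide +kernel
lemma cox_ei_c2 : chunkOk [rows_e, rows_i, rows_e, rows_i] rows_one 2 = true := by decide +kernel
lemma cox_ei_c3 : chunkOk [rows_e, rows_i, rows_e, rows_i] rows_one 3 = true := by decide +kernel
lemma cox_ei_c4 : chunkOk [rows_e, rows_i, rows_e, rows_i] rows_one 4 = true := by decide +kernel
lemma cox_ei_c5 : chunkOk [rows_e, rows_i, rows_e, rows_i] rows_one 5 = true := by decide +kernel
lemma cox_ei_c6 : chunkOk [rows_e, rows_i, rows_e, rows_i] rows_one 6 = true := by decide +kernel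
lemma cox_ei_c7 : chunkOk [rows_e, rows_i, rows_e, rows_i] rows_one 7 = true := by decide +kernel
theorem cox_ei : prodP [rows_e, rows_i, rows_e, rows_i] = rows_one :=
  prodP_eq_of_chunks rfl fun c hc => match c, hc with
    | 0, _ => cox_ei_c0
    | 1, _ => cox_ei_c1
    | 2, _ => cox_ei_c2
    | 3, _ => cox_ei_c3
    | 4, _ => cox_ei_c4
    | 5, _ => cox_ei_c5
    | 6, _ => cox_ei_c6
    | 7, _ => cox_ei_c7
    | n + 8, h => absurd h (by omega)

lemma sq_f_c0 : chunkOk [rows_f, rows_f] rows_one 0 = true := by decide +kernel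
lemma sq_f_c1 : chunkOk [rows_f, rows_f] rows_one 1 = true := by decide +kernel
lemma sq_f_c2 : chunkOk [rows_f, rows_f] rows_one 2 = true := by decide +kernel
lemma sq_f_c3 : chunkOk [rows_f, rows_f] rows_one 3 = true := by decide +kernel
lemma sq_f_c4 : chunkOk [rows_f, rows_f] rows_one 4 = true := by decide +kernel
lemma sq_f_c5 : chunkOk [rows_f, rows_f] rows_one 5 = true := by decide +kernel
lemma sq_f_c6 : chunkOk [rows_f, rows_f] rows_one 6 = true := by decide +kernel
lemma sq_f_c7 : chunkOk [rows_f, rows_f] rows_one 7 = true := by decide +kernel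
theorem sq_f : prodP [rows_f, rows_f] = rows_one :=
  prodP_eq_of_chunks rfl fun c hc => match c, hc with
    | 0, _ => sq_f_c0
    | 1, _ => sq_f_c1
    | 2, _ => sq_f_c2
    | 3, _ => sq_f_c3
    | 4, _ => sq_f_c4
    | 5, _ => sq_f_c5
    | 6, _ => sq_f_c6
    | 7, _ => sq_f_c7
    | n + 8, h => absurd h (by omega)

end CfsgLib.SporRecognition.Fi22Rep
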