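import Cfsg.Agent.Lib.SporRecognition.Fi22Rep.Packed
import Cfsg.Agent.Lib.SporRecognition.Fi22Rep.Powers

/-!
Coxeter relations of Fi22 in the 78-dimensional representation.
-/

set_option autoImplicit false
set_option maxRecDepth 20000

namespace CfsgLib.SporRecognition.Fi22Rep

lemma cox_fg_c0 : chunkOk [rows_f, rows_g, rows_f, rows_g, rows_f, rows_g] rows_one 0 = true := by decide +kernel
lemma cox_fg_c1 : chunkOk [rows_f, rows_g, rows_f, rows_g, rows_f, rows_g] rows_one 1 = true := by decide +kernel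
lemma cox_fg_c2 : chunkOk [rows_f, rows_g, rows_f, rows_g, rows_f, rows_g] rows_one 2 = true := by decide +kernel
lemma cox_fg_c3 : chunkOk [rows_f, rows_g, rows_f, rows_g, rows_f, rows_g] rows_one 3 = true := by decide +kernel
lemma cox_fg_c4 : chunkOk [rows_f, rows_g, rows_f, rows_g, rows_f, rows_g] rows_one 4 = true := by decide +kernel
lemma cox_fg_c5 : chunkOk [rows_f, rows_g, rows_f, rows_g, rows_f, rows_g] rows_one 5 = true := by decide +kernel
lemma cox_fg_c6 : chunkOk [rows_f, rows_g, rows_f, rows_g, rows_f, rows_g] rows_one 6 = true := by decide +kernel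
lemma cox_fg_c7 : chunkOk [rows_f, rows_g, rows_f, rows_g, rows_f, rows_g] rows_one 7 = true := by decide +kernel
theorem cox_fg : prodP [rows_f, rows_g, rows_f, rows_g, rows_f, rows_g] = rows_one :=
  prodP_eq_of_chunks rfl fun c hc => match c, hc with
    | 0, _ => cox_fg_c0
    | 1, _ => cox_fg_c1
    | 2, _ => cox_fg_c2
    | 3, _ => cox_fg_c3
    | 4, _ => cox_fg_c4
    | 5, _ => cox_fg_c5
    | 6, _ => cox_fg_c6
    | 7, _ => cox_fg_c7
    | n + 8, h => absurd h (by omega)

lemma cox_fh_c0 : chunkOk [rows_f, rows_h, rows_f, rows_h] rows_one 0 = true := by decide +kernel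
lemma cox_fh_c1 : chunkOk [rows_f, rows_h, rows_f, rows_h] rows_one 1 = true := by decide +kernel
lemma cox_fh_c2 : chunkOk [rows_f, rows_h, rows_f, rows_h] rows_one 2 = true := by decide +kernel
lemma cox_fh_c3 : chunkOk [rows_f, rows_h, rows_f, rows_h] rows_one 3 = true := by decide +kernel
lemma cox_fh_c4 : chunkOk [rows_f, rows_h, rows_f, rows_h] rows_one 4 = true := by decide +kernel
lemma cox_fh_c5 : chunkOk [rows_f, rows_h, rows_f, rows_h] rows_one 5 = true := by decide +kernel
lemma cox_fh_c6 : chunkOk [rows_f, rows_h, rows_f, rows_h] rows_one 6 = true := by decide +kernel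
lemma cox_fh_c7 : chunkOk [rows_f, rows_h, rows_f, rows_h] rows_one 7 = true := by decide +kernel
theorem cox_fh : prodP [rows_f, rows_h, rows_f, rows_h] = rows_one :=
  prodP_eq_of_chunks rfl fun c hc => match c, hc with
    | 0, _ => cox_fh_c0
    | 1, _ => cox_fh_c1
    | 2, _ => cox_fh_c2
    | 3, _ => cox_fh_c3
    | 4, _ => cox_fh_c4
    | 5, _ => cox_fh_c5
    | 6, _ => cox_fh_c6
    | 7, _ => cox_fh_c7
    | n + 8, h => absurd h (by omega)

lemma cox_fi_c0 : chunkOk [rows_f, rows_i, rows_f, rows_i] rows_one 0 = true := by decide +kernel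
lemma cox_fi_c1 : chunkOk [rows_f, rows_i, rows_f, rows_i] rows_one 1 = true := by decide +kernel
lemma cox_fi_c2 : chunkOk [rows_f, rows_i, rows_f, rows_i] rows_one 2 = true := by decide +kernel
lemma cox_fi_c3 : chunkOk [rows_f, rows_i, rows_f, rows_i] rows_one 3 = true := by decide +kernel
lemma cox_fi_c4 : chunkOk [rows_f, rows_i, rows_f, rows_i] rows_one 4 = true := by decide +kernel
lemma cox_fi_c5 : chunkOk [rows_f, rows_i, rows_f, rows_i] rows_one 5 = true := by decide +kernel
lemma cox_fi_c6 : chunkOk [rows_f, rows_i, rows_f, rows_i] rows_one 6 = true := by decide +kernel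
lemma cox_fi_c7 : chunkOk [rows_f, rows_i, rows_f, rows_i] rows_one 7 = true := by decide +kernel
theorem cox_fi : prodP [rows_f, rows_i, rows_f, rows_i] = rows_one :=
  prodP_eq_of_chunks rfl fun c hc => match c, hc with
    | 0, _ => cox_fi_c0
    | 1, _ => cox_fi_c1
    | 2, _ => cox_fi_c2
    | 3, _ => cox_fi_c3
    | 4, _ => cox_fi_c4
    | 5, _ => cox_fi_c5
    | 6, _ => cox_fi_c6
    | 7, _ => cox_fi_c7
    | n + 8, h => absurd h (by omega)

lemma sq_g_c0 : chunkOk [rows_g, rows_g] rows_one 0 = true := by decide +kernel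
lemma sq_g_c1 : chunkOk [rows_g, rows_g] rows_one 1 = true := by decide +kernel
lemma sq_g_c2 : chunkOk [rows_g, rows_g] rows_one 2 = true := by decide +kernel
lemma sq_g_c3 : chunkOk [rows_g, rows_g] rows_one 3 = true := by decide +kernel
lemma sq_g_c4 : chunkOk [rows_g, rows_g] rows_one 4 = true := by decide +kernel
lemma sq_g_c5 : chunkOk [rows_g, rows_g] rows_one 5 = true := by decide +kernel
lemma sq_g_c6 : chunkOk [rows_g, rows_g] rows_one 6 = true := by decide +kernel
lemma sq_g_c7 : chunkOk [rows_g, rows_g] rows_one 7 = true := by decide +kernel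
theorem sq_g : prodP [rows_g, rows_g] = rows_one :=
  prodP_eq_of_chunks rfl fun c hc => match c, hc with
    | 0, _ => sq_g_c0
    | 1, _ => sq_g_c1
    | 2, _ => sq_g_c2
    | 3, _ => sq_g_c3
    | 4, _ => sq_g_c4
    | 5, _ => sq_g_c5
    | 6, _ => sq_g_c6
    | 7, _ => sq_g_c7
    | n + 8, h => absurd h (by omega)

lemma cox_gh_c0 : chunkOk [rows_g, rows_h, rows_g, rows_h] rows_one 0 = true := by decide +kernel
lemma cox_gh_c1 : chunkOk [rows_g, rows_h, rows_g, rows_h] rows_one 1 = true := by decide +kernel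
lemma cox_gh_c2 : chunkOk [rows_g, rows_h, rows_g, rows_h] rows_one 2 = true := by decide +kernel
lemma cox_gh_c3 : chunkOk [rows_g, rows_h, rows_g, rows_h] rows_one 3 = true := by decide +kernel
lemma cox_gh_c4 : chunkOk [rows_g, rows_h, rows_g, rows_h] rows_one 4 = true := by decide +kernel
lemma cox_gh_c5 : chunkOk [rows_g, rows_h, rows_g, rows_h] rows_one 5 = true := by decide +kernel
lemma cox_gh_c6 : chunkOk [rows_g, rows_h, rows_g, rows_h] rows_one 6 = true := by decide +kernel
lemma cox_gh_c7 : chunkOk [rows_g, rows_h, rows_g, rows_h] rows_one 7 = true := by decide +kernel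
theorem cox_gh : prodP [rows_g, rows_h, rows_g, rows_h] = rows_one :=
  prodP_eq_of_chunks rfl fun c hc => match c, hc with
    | 0, _ => cox_gh_c0
    | 1, _ => cox_gh_c1
    | 2, _ => cox_gh_c2
    | 3, _ => cox_gh_c3
    | 4, _ => cox_gh_c4
    | 5, _ => cox_gh_c5
    | 6, _ => cox_gh_c6
    | 7, _ => cox_gh_c7
    | n + 8, h => absurd h (by omega)

lemma cox_gi_c0 : chunkOk [rows_g, rows_i, rows_g, rows_i] rows_one 0 = true := by decide +kernel
lemma cox_gi_c1 : chunkOk [rows_g, rows_i, rows_g, rows_i] rows_one 1 = true := by decide +kernel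
lemma cox_gi_c2 : chunkOk [rows_g, rows_i, rows_g, rows_i] rows_one 2 = true := by decide +kernel
lemma cox_gi_c3 : chunkOk [rows_g, rows_i, rows_g, rows_i] rows_one 3 = true := by decide +kernel
lemma cox_gi_c4 : chunkOk [rows_g, rows_i, rows_g, rows_i] rows_one 4 = true := by decide +kernel
lemma cox_gi_c5 : chunkOk [rows_g, rows_i, rows_g, rows_i] rows_one 5 = true := by decide +kernel
lemma cox_gi_c6 : chunkOk [rows_g, rows_i, rows_g, rows_i] rows_one 6 = true := by decide +kernel
lemma cox_gi_c7 : chunkOk [rows_g, rows_i, rows_g, rows_i] rows_one 7 = true := by decide +kernel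
theorem cox_gi : prodP [rows_g, rows_i, rows_g, rows_i] = rows_one :=
  prodP_eq_of_chunks rfl fun c hc => match c, hc with
    | 0, _ => cox_gi_c0
    | 1, _ => cox_gi_c1
    | 2, _ => cox_gi_c2
    | 3, _ => cox_gi_c3
    | 4, _ => cox_gi_c4
    | 5, _ => cox_gi_c5
    | 6, _ => cox_gi_c6
    | 7, _ => cox_gi_c7
    | n + 8, h => absurd h (by omega)

lemma sq_h_c0 : chunkOk [rows_h, rows_h] rows_one 0 = true := by decide +kernel
lemma sq_h_c1 : chunkOk [rows_h, rows_h] rows_one 1 = true := by decide +kernel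
lemma sq_h_c2 : chunkOk [rows_h, rows_h] rows_one 2 = true := by decide +kernel
lemma sq_h_c3 : chunkOk [rows_h, rows_h] rows_one 3 = true := by decide +kernel
lemma sq_h_c4 : chunkOk [rows_h, rows_h] rows_one 4 = true := by decide +kernel
lemma sq_h_c5 : chunkOk [rows_h, rows_h] rows_one 5 = true := by decide +kernel
lemma sq_h_c6 : chunkOk [rows_h, rows_h] rows_one 6 = true := by decide +kernel
lemma sq_h_c7 : chunkOk [rows_h, rows_h] rows_one 7 = true := by decide +kernel
theorem sq_h : prodP [rows_h, rows_h] = rows_one :=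
  prodP_eq_of_chunks rfl fun c hc => match c, hc with
    | 0, _ => sq_h_c0
    | 1, _ => sq_h_c1
    | 2, _ => sq_h_c2
    | 3, _ => sq_h_c3
    | 4, _ => sq_h_c4
    | 5, _ => sq_h_c5
    | 6, _ => sq_h_c6
    | 7, _ => sq_h_c7
    | n + 8, h => absurd h (by omega)

lemma cox_hi_c0 : chunkOk [rows_h, rows_i, rows_h, rows_i, rows_h, rows_i] rows_one 0 = true := by decide +kernel
lemma cox_hi_c1 : chunkOk [rows_h, rows_i, rows_h, rows_i, rows_h, rows_i] rows_one 1 = true := by decide +kernel
lemma cox_hi_c2 : chunkOk [rows_h, rows_i, rows_h, rows_i, rows_h, rows_i] rows_one 2 = true := by decide +kernel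
lemma cox_hi_c3 : chunkOk [rows_h, rows_i, rows_h, rows_i, rows_h, rows_i] rows_one 3 = true := by decide +kernel
lemma cox_hi_c4 : chunkOk [rows_h, rows_i, rows_h, rows_i, rows_h, rows_i] rows_one 4 = true := by decide +kernel
lemma cox_hi_c5 : chunkOk [rows_h, rows_i, rows_h, rows_i, rows_h, rows_i] rows_one 5 = true := by decide +kernel
lemma cox_hi_c6 : chunkOk [rows_h, rows_i, rows_h, rows_i, rows_h, rows_i] rows_one 6 = true := by decide +kernel
lemma cox_hi_c7 : chunkOk [rows_h, rows_i, rows_h, rows_i, rows_h, rows_i] rows_one 7 = true := by decide +kernel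
theorem cox_hi : prodP [rows_h, rows_i, rows_h, rows_i, rows_h, rows_i] = rows_one :=
  prodP_eq_of_chunks rfl fun c hc => match c, hc with
    | 0, _ => cox_hi_c0
    | 1, _ => cox_hi_c1
    | 2, _ => cox_hi_c2
    | 3, _ => cox_hi_c3
    | 4, _ => cox_hi_c4
    | 5, _ => cox_hi_c5
    | 6, _ => cox_hi_c6
    | 7, _ => cox_hi_c7
    | n + 8, h => absurd h (by omega)

lemma sq_i_c0 : chunkOk [rows_i, rows_i] rows_one 0 = true := by decide +kernel
lemma sq_i_c1 : chunkOk [rows_i, rows_i] rows_one 1 = true := by decide +kernel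
lemma sq_i_c2 : chunkOk [rows_i, rows_i] rows_one 2 = true := by decide +kernel
lemma sq_i_c3 : chunkOk [rows_i, rows_i] rows_one 3 = true := by decide +kernel
lemma sq_i_c4 : chunkOk [rows_i, rows_i] rows_one 4 = true := by decide +kernel
lemma sq_i_c5 : chunkOk [rows_i, rows_i] rows_one 5 = true := by decide +kernel
lemma sq_i_c6 : chunkOk [rows_i, rows_i] rows_one 6 = true := by decide +kernel
lemma sq_i_c7 : chunkOk [rows_i, rows_i] rows_one 7 = true := by decide +kernel
theorem sq_i : prodP [rows_i, rows_i] = rows_one :=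
  prodP_eq_of_chunks rfl fun c hc => match c, hc with
    | 0, _ => sq_i_c0
    | 1, _ => sq_i_c1
    | 2, _ => sq_i_c2
    | 3, _ => sq_i_c3
    | 4, _ => sq_i_c4
    | 5, _ => sq_i_c5
    | 6, _ => sq_i_c6
    | 7, _ => sq_i_c7
    | n + 8, h => absurd h (by omega)

end CfsgLib.SporRecognition.Fi22Rep
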