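import Cfsg.Agent.Lib.SporRecognition.Fi22Rep.Packed
import Cfsg.Agent.Lib.SporRecognition.Fi22Rep.Powers

/-!
The first relation of type E7.
-/

set_option autoImplicit false
set_option maxRecDepth 20000

namespace CfsgLib.SporRecognition.Fi22Rep

lemma e7a_w1_c0 : chunkOk [rows_a, rows_b, rows_c, rows_d, rows_e, rows_f, rows_h] rows_e7a1 0 = true := by decide +kernel
lemma e7a_w1_c1 : chunkOk [rows_a, rows_b, rows_c, rows_d, rows_e, rows_f, rows_h] rows_e7a1 1 = true := by decide +kernel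
lemma e7a_w1_c2 : chunkOk [rows_a, rows_b, rows_c, rows_d, rows_e, rows_f, rows_h] rows_e7a1 2 = true := by decide +kernel
lemma e7a_w1_c3 : chunkOk [rows_a, rows_b, rows_c, rows_d, rows_e, rows_f, rows_h] rows_e7a1 3 = true := by decide +kernel
lemma e7a_w1_c4 : chunkOk [rows_a, rows_b, rows_c, rows_d, rows_e, rows_f, rows_h] rows_e7a1 4 = true := by decide +kernel
lemma e7a_w1_c5 : chunkOk [rows_a, rows_b, rows_c, rows_d, rows_e, rows_f, rows_h] rows_e7a1 5 = true := by decide +kernel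
lemma e7a_w1_c6 : chunkOk [rows_a, rows_b, rows_c, rows_d, rows_e, rows_f, rows_h] rows_e7a1 6 = true := by decide +kernel
lemma e7a_w1_c7 : chunkOk [rows_a, rows_b, rows_c, rows_d, rows_e, rows_f, rows_h] rows_e7a1 7 = true := by decide +kernel
theorem e7a_w1 : prodP [rows_a, rows_b, rows_c, rows_d, rows_e, rows_f, rows_h] = rows_e7a1 :=
  prodP_eq_of_chunks rfl fun c hc => match c, hc with
    | 0, _ => e7a_w1_c0
    | 1, _ => e7a_w1_c1
    | 2, _ => e7a_w1_c2
    | 3, _ => e7a_w1_c3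
    | 4, _ => e7a_w1_c4
    | 5, _ => e7a_w1_c5
    | 6, _ => e7a_w1_c6
    | 7, _ => e7a_w1_c7
    | n + 8, h => absurd h (by omega)

lemma e7a_w2_c0 : chunkOk [rows_e7a1, rows_e7a1] rows_e7a2 0 = true := by decide +kernel
lemma e7a_w2_c1 : chunkOk [rows_e7a1, rows_e7a1] rows_e7a2 1 = true := by decide +kernel
lemma e7a_w2_c2 : chunkOk [rows_e7a1, rows_e7a1] rows_e7a2 2 = true := by decide +kernel
lemma e7a_w2_c3 : chunkOk [rows_e7a1, rows_e7a1] rows_e7a2 3 = true := by decide +kernel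
lemma e7a_w2_c4 : chunkOk [rows_e7a1, rows_e7a1] rows_e7a2 4 = true := by decide +kernel
lemma e7a_w2_c5 : chunkOk [rows_e7a1, rows_e7a1] rows_e7a2 5 = true := by decide +kernel
lemma e7a_w2_c6 : chunkOk [rows_e7a1, rows_e7a1] rows_e7a2 6 = true := by decide +kernel
lemma e7a_w2_c7 : chunkOk [rows_e7a1, rows_e7a1] rows_e7a2 7 = true := by decide +kernel
theorem e7a_w2 : prodP [rows_e7a1, rows_e7a1] = rows_e7a2 :=
  prodP_eq_of_chunks rfl fun c hc => match c, hc with
    | 0, _ => e7a_w2_c0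
    | 1, _ => e7a_w2_c1
    | 2, _ => e7a_w2_c2
    | 3, _ => e7a_w2_c3
    | 4, _ => e7a_w2_c4
    | 5, _ => e7a_w2_c5
    | 6, _ => e7a_w2_c6
    | 7, _ => e7a_w2_c7
    | n + 8, h => absurd h (by omega)

lemma e7a_w4_c0 : chunkOk [rows_e7a2, rows_e7a2] rows_e7a4 0 = true := by decide +kernel
lemma e7a_w4_c1 : chunkOk [rows_e7a2, rows_e7a2] rows_e7a4 1 = true := by decide +kernel
lemma e7a_w4_c2 : chunkOk [rows_e7a2, rows_e7a2] rows_e7a4 2 = true := by decide +kernel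
lemma e7a_w4_c3 : chunkOk [rows_e7a2, rows_e7a2] rows_e7a4 3 = true := by decide +kernel
lemma e7a_w4_c4 : chunkOk [rows_e7a2, rows_e7a2] rows_e7a4 4 = true := by decide +kernel
lemma e7a_w4_c5 : chunkOk [rows_e7a2, rows_e7a2] rows_e7a4 5 = true := by decide +kernel
lemma e7a_w4_c6 : chunkOk [rows_e7a2, rows_e7a2] rows_e7a4 6 = true := by decide +kernel
lemma e7a_w4_c7 : chunkOk [rows_e7a2, rows_e7a2] rows_e7a4 7 = true := by decide +kernel
theorem e7a_w4 : prodP [rows_e7a2, rows_e7a2] = rows_e7a4 :=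
  prodP_eq_of_chunks rfl fun c hc => match c, hc with
    | 0, _ => e7a_w4_c0
    | 1, _ => e7a_w4_c1
    | 2, _ => e7a_w4_c2
    | 3, _ => e7a_w4_c3
    | 4, _ => e7a_w4_c4
    | 5, _ => e7a_w4_c5
    | 6, _ => e7a_w4_c6
    | 7, _ => e7a_w4_c7
    | n + 8, h => absurd h (by omega)

lemma e7a_w8_c0 : chunkOk [rows_e7a4, rows_e7a4] rows_e7a8 0 = true := by decide +kernel
lemma e7a_w8_c1 : chunkOk [rows_e7a4, rows_e7a4] rows_e7a8 1 = true := by decide +kernel
lemma e7a_w8_c2 : chunkOk [rows_e7a4, rows_e7a4] rows_e7a8 2 = true := by decide +kernel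
lemma e7a_w8_c3 : chunkOk [rows_e7a4, rows_e7a4] rows_e7a8 3 = true := by decide +kernel
lemma e7a_w8_c4 : chunkOk [rows_e7a4, rows_e7a4] rows_e7a8 4 = true := by decide +kernel
lemma e7a_w8_c5 : chunkOk [rows_e7a4, rows_e7a4] rows_e7a8 5 = true := by decide +kernel
lemma e7a_w8_c6 : chunkOk [rows_e7a4, rows_e7a4] rows_e7a8 6 = true := by decide +kernel
lemma e7a_w8_c7 : chunkOk [rows_e7a4, rows_e7a4] rows_e7a8 7 = true := by decide +kernel
theorem e7a_w8 : prodP [rows_e7a4, rows_e7a4] = rows_e7a8 :=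
  prodP_eq_of_chunks rfl fun c hc => match c, hc with
    | 0, _ => e7a_w8_c0
    | 1, _ => e7a_w8_c1
    | 2, _ => e7a_w8_c2
    | 3, _ => e7a_w8_c3
    | 4, _ => e7a_w8_c4
    | 5, _ => e7a_w8_c5
    | 6, _ => e7a_w8_c6
    | 7, _ => e7a_w8_c7
    | n + 8, h => absurd h (by omega)

lemma e7a_end_c0 : chunkOk [rows_e7a8, rows_e7a1] rows_one 0 = true := by decide +kernel
lemma e7a_end_c1 : chunkOk [rows_e7a8, rows_e7a1] rows_one 1 = true := by decide +kernel
lemma e7a_end_c2 : chunkOk [rows_e7a8, rows_e7a1] rows_one 2 = true := by decide +kernel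
lemma e7a_end_c3 : chunkOk [rows_e7a8, rows_e7a1] rows_one 3 = true := by decide +kernel
lemma e7a_end_c4 : chunkOk [rows_e7a8, rows_e7a1] rows_one 4 = true := by decide +kernel
lemma e7a_end_c5 : chunkOk [rows_e7a8, rows_e7a1] rows_one 5 = true := by decide +kernel
lemma e7a_end_c6 : chunkOk [rows_e7a8, rows_e7a1] rows_one 6 = true := by decide +kernel
lemma e7a_end_c7 : chunkOk [rows_e7a8, rows_e7a1] rows_one 7 = true := by decide +kernel
theorem e7a_end : prodP [rows_e7a8, rows_e7a1] = rows_one :=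
  prodP_eq_of_chunks rfl fun c hc => match c, hc with
    | 0, _ => e7a_end_c0
    | 1, _ => e7a_end_c1
    | 2, _ => e7a_end_c2
    | 3, _ => e7a_end_c3
    | 4, _ => e7a_end_c4
    | 5, _ => e7a_end_c5
    | 6, _ => e7a_end_c6
    | 7, _ => e7a_end_c7
    | n + 8, h => absurd h (by omega)

end CfsgLib.SporRecognition.Fi22Rep
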