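import Cfsg.Agent.Lib.SporRecognition.Fi22Rep.Packed
import Cfsg.Agent.Lib.SporRecognition.Fi22Rep.Powers

/-!
The second relation of type E7.
-/

set_option autoImplicit false
set_option maxRecDepth 20000

namespace CfsgLib.SporRecognition.Fi22Rep

lemma e7b_w1_c0 : chunkOk [rows_b, rows_c, rows_d, rows_e, rows_f, rows_g, rows_h] rows_e7b1 0 = true := by decide +kernel
lemma e7b_w1_c1 : chunkOk [rows_b, rows_c, rows_d, rows_e, rows_f, rows_g, rows_h] rows_e7b1 1 = true := by decide +kernel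
lemma e7b_w1_c2 : chunkOk [rows_b, rows_c, rows_d, rows_e, rows_f, rows_g, rows_h] rows_e7b1 2 = true := by decide +kernel
lemma e7b_w1_c3 : chunkOk [rows_b, rows_c, rows_d, rows_e, rows_f, rows_g, rows_h] rows_e7b1 3 = true := by decide +kernel
lemma e7b_w1_c4 : chunkOk [rows_b, rows_c, rows_d, rows_e, rows_f, rows_g, rows_h] rows_e7b1 4 = true := by decide +kernel
lemma e7b_w1_c5 : chunkOk [rows_b, rows_c, rows_d, rows_e, rows_f, rows_g, rows_h] rows_e7b1 5 = true := by decide +kernel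
lemma e7b_w1_c6 : chunkOk [rows_b, rows_c, rows_d, rows_e, rows_f, rows_g, rows_h] rows_e7b1 6 = true := by decide +kernel
lemma e7b_w1_c7 : chunkOk [rows_b, rows_c, rows_d, rows_e, rows_f, rows_g, rows_h] rows_e7b1 7 = true := by decide +kernel
theorem e7b_w1 : prodP [rows_b, rows_c, rows_d, rows_e, rows_f, rows_g, rows_h] = rows_e7b1 :=
  prodP_eq_of_chunks rfl fun c hc => match c, hc with
    | 0, _ => e7b_w1_c0
    | 1, _ => e7b_w1_c1
    | 2, _ => e7b_w1_c2
    | 3, _ => e7b_w1_c3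
    | 4, _ => e7b_w1_c4
    | 5, _ => e7b_w1_c5
    | 6, _ => e7b_w1_c6
    | 7, _ => e7b_w1_c7
    | n + 8, h => absurd h (by omega)

lemma e7b_w2_c0 : chunkOk [rows_e7b1, rows_e7b1] rows_e7b2 0 = true := by decide +kernel
lemma e7b_w2_c1 : chunkOk [rows_e7b1, rows_e7b1] rows_e7b2 1 = true := by decide +kernel
lemma e7b_w2_c2 : chunkOk [rows_e7b1, rows_e7b1] rows_e7b2 2 = true := by decide +kernel
lemma e7b_w2_c3 : chunkOk [rows_e7b1, rows_e7b1] rows_e7b2 3 = true := by decide +kernel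
lemma e7b_w2_c4 : chunkOk [rows_e7b1, rows_e7b1] rows_e7b2 4 = true := by decide +kernel
lemma e7b_w2_c5 : chunkOk [rows_e7b1, rows_e7b1] rows_e7b2 5 = true := by decide +kernel
lemma e7b_w2_c6 : chunkOk [rows_e7b1, rows_e7b1] rows_e7b2 6 = true := by decide +kernel
lemma e7b_w2_c7 : chunkOk [rows_e7b1, rows_e7b1] rows_e7b2 7 = true := by decide +kernel
theorem e7b_w2 : prodP [rows_e7b1, rows_e7b1] = rows_e7b2 :=
  prodP_eq_of_chunks rfl fun c hc => match c, hc with
    | 0, _ => e7b_w2_c0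
    | 1, _ => e7b_w2_c1
    | 2, _ => e7b_w2_c2
    | 3, _ => e7b_w2_c3
    | 4, _ => e7b_w2_c4
    | 5, _ => e7b_w2_c5
    | 6, _ => e7b_w2_c6
    | 7, _ => e7b_w2_c7
    | n + 8, h => absurd h (by omega)

lemma e7b_w4_c0 : chunkOk [rows_e7b2, rows_e7b2] rows_e7b4 0 = true := by decide +kernel
lemma e7b_w4_c1 : chunkOk [rows_e7b2, rows_e7b2] rows_e7b4 1 = true := by decide +kernel
lemma e7b_w4_c2 : chunkOk [rows_e7b2, rows_e7b2] rows_e7b4 2 = true := by decide +kernel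
lemma e7b_w4_c3 : chunkOk [rows_e7b2, rows_e7b2] rows_e7b4 3 = true := by decide +kernel
lemma e7b_w4_c4 : chunkOk [rows_e7b2, rows_e7b2] rows_e7b4 4 = true := by decide +kernel
lemma e7b_w4_c5 : chunkOk [rows_e7b2, rows_e7b2] rows_e7b4 5 = true := by decide +kernel
lemma e7b_w4_c6 : chunkOk [rows_e7b2, rows_e7b2] rows_e7b4 6 = true := by decide +kernel
lemma e7b_w4_c7 : chunkOk [rows_e7b2, rows_e7b2] rows_e7b4 7 = true := by decide +kernel
theorem e7b_w4 : prodP [rows_e7b2, rows_e7b2] = rows_e7b4 :=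
  prodP_eq_of_chunks rfl fun c hc => match c, hc with
    | 0, _ => e7b_w4_c0
    | 1, _ => e7b_w4_c1
    | 2, _ => e7b_w4_c2
    | 3, _ => e7b_w4_c3
    | 4, _ => e7b_w4_c4
    | 5, _ => e7b_w4_c5
    | 6, _ => e7b_w4_c6
    | 7, _ => e7b_w4_c7
    | n + 8, h => absurd h (by omega)

lemma e7b_w8_c0 : chunkOk [rows_e7b4, rows_e7b4] rows_e7b8 0 = true := by decide +kernel
lemma e7b_w8_c1 : chunkOk [rows_e7b4, rows_e7b4] rows_e7b8 1 = true := by decide +kernel
lemma e7b_w8_c2 : chunkOk [rows_e7b4, rows_e7b4] rows_e7b8 2 = true := by decide +kernel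
lemma e7b_w8_c3 : chunkOk [rows_e7b4, rows_e7b4] rows_e7b8 3 = true := by decide +kernel
lemma e7b_w8_c4 : chunkOk [rows_e7b4, rows_e7b4] rows_e7b8 4 = true := by decide +kernel
lemma e7b_w8_c5 : chunkOk [rows_e7b4, rows_e7b4] rows_e7b8 5 = true := by decide +kernel
lemma e7b_w8_c6 : chunkOk [rows_e7b4, rows_e7b4] rows_e7b8 6 = true := by decide +kernel
lemma e7b_w8_c7 : chunkOk [rows_e7b4, rows_e7b4] rows_e7b8 7 = true := by decide +kernel
theorem e7b_w8 : prodP [rows_e7b4, rows_e7b4] = rows_e7b8 :=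
  prodP_eq_of_chunks rfl fun c hc => match c, hc with
    | 0, _ => e7b_w8_c0
    | 1, _ => e7b_w8_c1
    | 2, _ => e7b_w8_c2
    | 3, _ => e7b_w8_c3
    | 4, _ => e7b_w8_c4
    | 5, _ => e7b_w8_c5
    | 6, _ => e7b_w8_c6
    | 7, _ => e7b_w8_c7
    | n + 8, h => absurd h (by omega)

lemma e7b_end_c0 : chunkOk [rows_e7b8, rows_e7b1] rows_one 0 = true := by decide +kernel
lemma e7b_end_c1 : chunkOk [rows_e7b8, rows_e7b1] rows_one 1 = true := by decide +kernel
lemma e7b_end_c2 : chunkOk [rows_e7b8, rows_e7b1] rows_one 2 = true := by decide +kernel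
lemma e7b_end_c3 : chunkOk [rows_e7b8, rows_e7b1] rows_one 3 = true := by decide +kernel
lemma e7b_end_c4 : chunkOk [rows_e7b8, rows_e7b1] rows_one 4 = true := by decide +kernel
lemma e7b_end_c5 : chunkOk [rows_e7b8, rows_e7b1] rows_one 5 = true := by decide +kernel
lemma e7b_end_c6 : chunkOk [rows_e7b8, rows_e7b1] rows_one 6 = true := by decide +kernel
lemma e7b_end_c7 : chunkOk [rows_e7b8, rows_e7b1] rows_one 7 = true := by decide +kernel
theorem e7b_end : prodP [rows_e7b8, rows_e7b1] = rows_one :=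
  prodP_eq_of_chunks rfl fun c hc => match c, hc with
    | 0, _ => e7b_end_c0
    | 1, _ => e7b_end_c1
    | 2, _ => e7b_end_c2
    | 3, _ => e7b_end_c3
    | 4, _ => e7b_end_c4
    | 5, _ => e7b_end_c5
    | 6, _ => e7b_end_c6
    | 7, _ => e7b_end_c7
    | n + 8, h => absurd h (by omega)

end CfsgLib.SporRecognition.Fi22Rep
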